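import Cfsg.Agent.Lib.OrthOmega.Structure
import Cfsg.Agent.Lib.OrthStd.Models
import Cfsg.Agent.Lib.Forms.Bridge

/-!
# `POmega` of `Def_Classical`: simplicity and order
-/

set_option autoImplicit false

namespace Cfsg.Agent.Lib.OrthOmega

open Module QuadraticMap Cfsg.Agent.Lib.Forms Cfsg.Agent.Lib.OrthStd

variable {F : Type*} [Field F] {ι : Type} [Fintype ι] [DecidableEq ι]

theorem map_center_mulEquiv {G H : Type*} [Group G] [Group H] (e : G ≃* H) :
    (Subgroup.center G).map e.toMonoidHom = Subgroup.center H := by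
  ext h
  rw [Subgroup.mem_map_equiv, Subgroup.mem_center_iff, Subgroup.mem_center_iff]
  constructor
  · intro hh g
    simpa using congrArg e (hh (e.symm g))
  · intro hh g
    apply e.injective
    simpa using hh (e g)

/-- `Ω` of a function that is a quadratic form, as a commutator subgroup of `orth Q`. -/
noncomputable def omegaEquiv (Q : QuadraticForm F (ι → F)) {f : (ι → F) → F}
    (hf : ∀ v, f v = Q v) : Cfsg.Omega F f ≃* commutator (orth Q) :=
  ((commutator (Cfsg.isometryGroup F f)).equivMapOfInjective _ (isoOrth Q hf).injective).trans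
    (MulEquiv.subgroupCongr (map_commutator_equiv (isoOrth Q hf)))

/-- `PΩ` as `EG Q` modulo its centre. -/
noncomputable def pOmegaEquiv [Finite F] (Q : QuadraticForm F (ι → F)) (hQ : Nondeg Q)
    (h5 : 5 ≤ finrank F (ι → F)) {f : (ι → F) → F} (hf : ∀ v, f v = Q v) :
    Cfsg.POmega F f ≃* EG Q ⧸ Subgroup.center (EG Q) :=
  QuotientGroup.congr _ _
    ((omegaEquiv Q hf).trans (MulEquiv.subgroupCongr (commutator_eq_EG hQ h5)))
    (map_center_mulEquiv _)

theorem isSimpleGroup_pOmega [Finite F] (Q : QuadraticForm F (ι → F)) (hQ : Nondeg Q)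
    (h5 : 5 ≤ finrank F (ι → F)) {f : (ι → F) → F} (hf : ∀ v, f v = Q v) :
    IsSimpleGroup (Cfsg.POmega F f) := by
  have := isSimpleGroup_EG hQ h5
  exact (pOmegaEquiv Q hQ h5 hf).isSimpleGroup

theorem finrank_fun (ι : Type) [Fintype ι] (F : Type*) [Field F] :
    finrank F (ι → F) = Fintype.card ι := Module.finrank_fintype_fun_eq_card F

theorem qOddC_nondeg (m : ℕ) (h2 : (2 : F) ≠ 0) : Nondeg (qOddC m F) :=
  (prod_nondeg (qPlus_nondeg m) (qOne_nondeg one_ne_zero h2)).of_equiv (oddIso m F).symm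

theorem two_ne_zero_of_odd [Fintype F] (h : Odd (Fintype.card F)) : (2 : F) ≠ 0 := by
  intro h2
  have := FiniteField.even_card_of_char_two (F := F)
    (CharP.ringChar_of_prime_eq_zero Nat.prime_two (by exact_mod_cast h2))
  rw [Nat.odd_iff] at h
  omega

theorem two_eq_zero_of_even [Fintype F] (h : ¬ Odd (Fintype.card F)) : (2 : F) = 0 := by
  by_contra h2
  exact h (Nat.odd_iff.mpr (FiniteField.odd_card_of_char_ne_two fun hc => h2 (by
    have : (((2 : ℕ)) : F) = 0 := (ringChar.spec F 2).mpr (hc ▸ dvd_rfl)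
    exact_mod_cast this)))

/-! ### The centre and the order -/

theorem center_eq_bot_of_not_neg [Finite F] (Q : QuadraticForm F (ι → F)) (hQ : Nondeg Q)
    (h5 : 5 ≤ finrank F (ι → F)) (h : ¬ ∃ g ∈ commutator (orth Q), ∀ x, g.1 x = -x) :
    Nat.card (Subgroup.center (EG Q)) = 1 := by
  rw [Subgroup.card_eq_one, Subgroup.eq_bot_iff_forall]
  intro g hg
  rcases (mem_center_EG_iff hQ h5 g).mp hg with h1 | h1
  · exact Subtype.ext (orth_ext h1)
  · exact absurd ⟨g.1, by rw [commutator_eq_EG hQ h5]; exact g.2, h1⟩ h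

theorem card_center_of_neg [Finite F] (Q : QuadraticForm F (ι → F)) (hQ : Nondeg Q)
    (h5 : 5 ≤ finrank F (ι → F)) (h2 : (2 : F) ≠ 0)
    (h : ∃ g ∈ commutator (orth Q), ∀ x, g.1 x = -x) :
    Nat.card (Subgroup.center (EG Q)) = 2 := by
  obtain ⟨g, hg, hneg⟩ := h
  rw [commutator_eq_EG hQ h5] at hg
  have hgc : (⟨g, hg⟩ : EG Q) ∈ Subgroup.center (EG Q) :=
    (mem_center_EG_iff hQ h5 _).mpr (Or.inr hneg)
  rw [Nat.card_eq_two_iff]
  refine ⟨1, ⟨_, hgc⟩, fun h => ?_, Set.eq_univ_of_forall fun k => ?_⟩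
  · have h1 : (1 : orth Q) = g := congrArg (fun k => (Subtype.val (Subtype.val k))) h
    have hne : Nonempty ι := by
      rw [finrank_fun] at h5
      exact Fintype.card_pos_iff.mp (by omega)
    obtain ⟨i⟩ := hne
    have h3 : (1 : F) = -1 := by
      have := congrFun (hneg (Pi.single i 1)) i
      rw [← h1] at this
      simpa using this
    exact h2 (by linear_combination h3)
  · rcases (mem_center_EG_iff hQ h5 k.1).mp k.2 with h1 | h1
    · exact Or.inl (Subtype.ext (Subtype.ext (orth_ext h1)))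
    · exact Or.inr (Subtype.ext (Subtype.ext (orth_ext fun x => (h1 x).trans (hneg x).symm)))

/-- `index · |centre| · |PΩ| = |O|`. -/
theorem card_pOmega_mul [Finite F] (Q : QuadraticForm F (ι → F)) (hQ : Nondeg Q)
    (h5 : 5 ≤ finrank F (ι → F)) {f : (ι → F) → F} (hf : ∀ v, f v = Q v) :
    (commutator (orth Q)).index *
      (Nat.card (Subgroup.center (EG Q)) * Nat.card (Cfsg.POmega F f)) =
      Nat.card (Cfsg.isometryGroup F f) := by
  rw [Nat.card_congr (pOmegaEquiv Q hQ h5 hf).toEquiv, mul_comm (Nat.card (Subgroup.center _)),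
    ← Subgroup.card_eq_card_quotient_mul_card_subgroup,
    Nat.card_congr (isoOrth Q hf).toEquiv, commutator_eq_EG hQ h5, Subgroup.index_mul_card]

theorem two_mul_card_pOmega_odd [Fintype F] {q : ℕ} (hF : Fintype.card F = q) (hodd : Odd q)
    (m : ℕ) (hm : 2 ≤ m) :
    2 * Nat.card (Cfsg.POmega F (Cfsg.quadFormOdd m F)) =
      q ^ (m ^ 2) * ∏ i ∈ Finset.range m, (q ^ (2 * (i + 1)) - 1) := by
  have h2 := two_ne_zero_of_odd (hF ▸ hodd)
  have hn := qOddC_nondeg (F := F) m h2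
  have h5 : 5 ≤ finrank F (Unit ⊕ (Fin m ⊕ Fin m) → F) := by rw [finrank_fun]; simp; omega
  have h := card_pOmega_mul (qOddC m F) hn h5 (quadFormOdd_eq m)
  rw [index_commutator_odd hn h2 (by omega), card_orth_odd hF hodd m,
    center_eq_bot_of_not_neg _ hn h5, one_mul] at h
  · linarith
  rintro ⟨g, hg, hneg⟩
  have hd : LinearEquiv.det g.1 = 1 := by
    have hle : commutator (orth (qOddC m F)) ≤
        (LinearEquiv.det.comp (orth (qOddC m F)).subtype).ker :=
      Abelianization.commutator_subset_ker _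
    exact hle hg
  have h1 : (g.1 : (Unit ⊕ (Fin m ⊕ Fin m) → F) →ₗ[F] _) = -LinearMap.id := by
    exact LinearMap.ext fun x => hneg x
  have h3 := congrArg Units.val hd
  rw [LinearEquiv.coe_det, h1, Units.val_one, ← neg_one_smul F LinearMap.id, LinearMap.det_smul,
    LinearMap.det_id, mul_one, finrank_fun] at h3
  rw [Odd.neg_one_pow ⟨m, by simp; omega⟩] at h3
  exact h2 (by linear_combination -h3)

theorem gcd_four_cases {k : ℕ} (hk : Even k) :
    (4 ∣ k ∧ Nat.gcd 4 k = 4) ∨ (¬ 4 ∣ k ∧ Nat.gcd 4 k = 2) := by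
  obtain ⟨j, rfl⟩ := hk
  rw [← two_mul, show 4 = 2 * 2 by rfl, Nat.gcd_mul_left, Nat.mul_dvd_mul_iff_left two_pos]
  rcases Nat.even_or_odd j with hj | hj
  · exact Or.inl ⟨even_iff_two_dvd.mp hj, by rw [Nat.gcd_eq_left (even_iff_two_dvd.mp hj)]⟩
  · exact Or.inr ⟨fun h => Nat.not_even_iff_odd.mpr hj (even_iff_two_dvd.mpr h), by
      rw [Nat.coprime_two_left.mpr hj, mul_one]⟩

/-- The common part of the two even-dimensional orders. -/
theorem gcd_mul_card_pOmega_even [Fintype F] {q : ℕ} (hF : Fintype.card F = q)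
    (Q : QuadraticForm F (ι → F)) (hQ : Nondeg Q) {m e k P : ℕ} (hm : 3 ≤ m)
    (hn : finrank F (ι → F) = 2 * m) {f : (ι → F) → F} (hf : ∀ v, f v = Q v)
    (hlev : levelCard Q (1 : F) = k * q ^ e) (hk : Even k ↔ Odd q)
    (hO : Nat.card (Cfsg.isometryGroup F f) = 2 * P) :
    Nat.gcd 4 k * Nat.card (Cfsg.POmega F f) = P := by
  have h5 : 5 ≤ finrank F (ι → F) := by omega
  have h := card_pOmega_mul Q hQ h5 hf
  rw [hO] at h
  by_cases hodd : Odd q
  · have h2 := two_ne_zero_of_odd (F := F) (hF ▸ hodd)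
    rw [index_commutator_odd hQ h2 (by omega)] at h
    have hiff := neg_one_mem_commutator_iff hQ h2 (by omega) ⟨m, by omega⟩ one_ne_zero
    have hkey : Even (levelCard Q (1 : F) / 2) ↔ 4 ∣ k := by
      obtain ⟨j, rfl⟩ := hk.mpr hodd
      rw [hlev, ← two_mul, mul_assoc, Nat.mul_div_cancel_left _ two_pos, Nat.even_mul,
        show 4 = 2 * 2 by rfl, Nat.mul_dvd_mul_iff_left two_pos, ← even_iff_two_dvd]
      exact ⟨fun h => h.resolve_right (Nat.not_even_iff_odd.mpr hodd.pow), Or.inl⟩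
    rcases gcd_four_cases (hk.mpr hodd) with ⟨h4, hg⟩ | ⟨h4, hg⟩
    · rw [card_center_of_neg Q hQ h5 h2 (hiff.mpr (hkey.mpr h4))] at h
      rw [hg]; omega
    · rw [center_eq_bot_of_not_neg Q hQ h5 (fun hh => h4 (hkey.mp (hiff.mp hh)))] at h
      rw [hg]; omega
  · have h2 := two_eq_zero_of_even (F := F) (hF ▸ hodd)
    rw [index_commutator_two hQ h2 (by omega) (Or.inr (by omega))] at h
    have hc : Nat.card (Subgroup.center (EG Q)) = 1 := by
      rw [Subgroup.card_eq_one, Subgroup.eq_bot_iff_forall]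
      intro g hg
      have hneg : ∀ x : ι → F, -x = x := fun x => by
        funext i
        show -x i = x i
        linear_combination -(x i) * h2
      rcases (mem_center_EG_iff hQ h5 g).mp hg with h1 | h1 <;>
        exact Subtype.ext (orth_ext fun x => (h1 x).trans (by first | rfl | exact hneg x))
    rw [hc, one_mul] at h
    have hg : Nat.gcd 4 k = 1 := by
      have hko : ¬ 2 ∣ k := fun hh => hodd (hk.mp (even_iff_two_dvd.mpr hh))
      exact Nat.Coprime.pow_left 2 ((Nat.Prime.coprime_iff_not_dvd Nat.prime_two).mpr hko)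
    rw [hg, one_mul]; omega

theorem even_pow_sub_one_iff {q m : ℕ} (hq : 1 ≤ q) (hm : 1 ≤ m) : Even (q ^ m - 1) ↔ Odd q := by
  rw [Nat.even_sub (Nat.one_le_pow _ _ hq), Nat.even_pow]
  simp [show m ≠ 0 by omega]

theorem even_pow_add_one_iff {q m : ℕ} (hm : 1 ≤ m) : Even (q ^ m + 1) ↔ Odd q := by
  rw [Nat.even_add_one, Nat.even_pow]
  simp [show m ≠ 0 by omega]

theorem card_pOmega_plus [Fintype F] {q : ℕ} (hF : Fintype.card F = q) (m : ℕ) (hm : 3 ≤ m) :
    Nat.gcd 4 (q ^ m - 1) * Nat.card (Cfsg.POmega F (Cfsg.quadFormPlus m F)) =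
      q ^ (m * (m - 1)) * (q ^ m - 1) * ∏ i ∈ Finset.range (m - 1), (q ^ (2 * (i + 1)) - 1) := by
  have hq : 1 ≤ q := hF ▸ Fintype.card_pos
  refine gcd_mul_card_pOmega_even hF (qPlus m) (qPlus_nondeg m) (m := m) (e := m - 1) hm
    (by rw [finrank_fun]; simp; omega) (quadFormPlus_eq m) ?_
    (even_pow_sub_one_iff hq (by omega)) ?_
  · rw [levelCard_qPlus m one_ne_zero, Nat.card_eq_fintype_card, hF]
  · rw [card_orth_plus hF m (by omega)]; ring

theorem card_pOmega_minus [Fintype F] {q : ℕ} (hF : Fintype.card F = q) (m : ℕ) (hm : 3 ≤ m)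
    {a b : F} (hab : ∀ z₁ z₂ : F, z₁ ^ 2 + a * z₁ * z₂ + b * z₂ ^ 2 = 0 → z₁ = 0 ∧ z₂ = 0) :
    Nat.gcd 4 (q ^ m + 1) * Nat.card (Cfsg.POmega F (Cfsg.quadFormMinus (m - 1) F a b)) =
      q ^ (m * (m - 1)) * (q ^ m + 1) * ∏ i ∈ Finset.range (m - 1), (q ^ (2 * (i + 1)) - 1) := by
  refine gcd_mul_card_pOmega_even hF (qMinus (m - 1) a b) (qMinus_nondeg _ hab) (m := m)
    (e := m - 1) hm (by rw [finrank_fun]; simp; omega) (fun v => (qMinus_apply _ a b v).symm) ?_
    (even_pow_add_one_iff (by omega)) ?_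
  · rw [levelCard_qMinus (m - 1) hab one_ne_zero, Nat.card_eq_fintype_card, hF,
      show m - 1 + 1 = m by omega]
  · rw [card_orth_minus hF m (by omega) hab]; ring

theorem isSimpleGroup_pOmega_odd [Fintype F] (hodd : Odd (Fintype.card F)) (m : ℕ) (hm : 2 ≤ m) :
    IsSimpleGroup (Cfsg.POmega F (Cfsg.quadFormOdd m F)) :=
  isSimpleGroup_pOmega (qOddC m F) (qOddC_nondeg m (two_ne_zero_of_odd hodd))
    (by rw [finrank_fun]; simp; omega) (quadFormOdd_eq m)

theorem isSimpleGroup_pOmega_plus [Fintype F] (m : ℕ) (hm : 3 ≤ m) :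
    IsSimpleGroup (Cfsg.POmega F (Cfsg.quadFormPlus m F)) :=
  isSimpleGroup_pOmega (qPlus m) (qPlus_nondeg m) (by rw [finrank_fun]; simp; omega)
    (quadFormPlus_eq m)

theorem isSimpleGroup_pOmega_minus [Fintype F] (k : ℕ) (hk : 2 ≤ k) {a b : F}
    (hab : ∀ z₁ z₂ : F, z₁ ^ 2 + a * z₁ * z₂ + b * z₂ ^ 2 = 0 → z₁ = 0 ∧ z₂ = 0) :
    IsSimpleGroup (Cfsg.POmega F (Cfsg.quadFormMinus k F a b)) :=
  isSimpleGroup_pOmega (qMinus k a b) (qMinus_nondeg k hab) (by rw [finrank_fun]; simp; omega)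
    (fun v => (qMinus_apply k a b v).symm)

end Cfsg.Agent.Lib.OrthOmega
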