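import Cfsg.Agent.Lib.OrthOmega.Siegel

/-!
# Structure of `EG Q` over a finite field

For a non-degenerate `Q` in dimension at least five: `EG Q` is the commutator subgroup of the
orthogonal group, it is perfect, its centre consists of scalars `±1`, and the quotient by the
centre is simple.
-/

set_option autoImplicit false

namespace Cfsg.Agent.Lib.OrthOmega

open Module QuadraticMap Cfsg.Agent.Lib.Forms
open scoped commutatorElement

variable {F : Type*} [Field F] {V : Type*} [AddCommGroup V] [Module F V]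
variable {Q : QuadraticForm F V}

/-- A non-degenerate form on a non-zero space takes a non-zero value. -/
theorem exists_Q_ne_zero (hQ : Nondeg Q) {x : V} (hx : x ≠ 0) : ∃ y, Q y ≠ 0 := by
  by_contra hc
  push Not at hc
  exact hx (hQ x fun y => by rw [polar, hc, hc, hc]; simp)

theorem exists_polar_eq_one (hQ : Nondeg Q) {x : V} (hx : x ≠ 0) : ∃ y, polar Q x y = 1 := by
  obtain ⟨y, hy⟩ : ∃ y, polar Q x y ≠ 0 := by
    by_contra hc
    push Not at hc
    exact hx (hQ x hc)
  exact ⟨(polar Q x y)⁻¹ • y, by rw [polar_smul_right, smul_eq_mul, inv_mul_cancel₀ hy]⟩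

/-- A Siegel transformation carrying one partner of `z` to another. -/
theorem rho_move {z w w' : V} (hz : Q z = 0) (hw : Q w = 0) (hw' : Q w' = 0)
    (h : polar Q z w = 1) (h' : polar Q z w' = 1) :
    ∃ hu : SPair Q z (w' - w), (rho hu).1 w = w' := by
  refine ⟨⟨hz, by rw [polar_sub_right, h, h', sub_self]⟩, ?_⟩
  rw [rho_apply, h]
  have h1 := Q_add Q (w' - w) w
  rw [sub_add_cancel, hw', hw, add_zero] at h1
  rw [mul_one, show polar Q (w' - w) w + Q (w' - w) = 0 by linear_combination -h1]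
  simp

variable [FiniteDimensional F V]

/-- Two singular vectors are non-orthogonal to a common singular vector. -/
theorem exists_common (hQ : Nondeg Q) (h3 : 3 ≤ finrank F V) {w w' : V} (hw0 : w ≠ 0)
    (hw'0 : w' ≠ 0) (hw : Q w = 0) (hw' : Q w' = 0) :
    ∃ z, Q z = 0 ∧ polar Q z w = 1 ∧ polar Q z w' ≠ 0 := by
  by_cases hdep : ∃ t : F, w' = t • w
  · obtain ⟨t, rfl⟩ := hdep
    obtain ⟨z, hp⟩ := exists_hypPair hQ hw0 hw
    refine ⟨z, hp.right, hp.pol', ?_⟩
    rw [polar_smul_right, hp.pol', smul_eq_mul, mul_one]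
    exact fun h => hw'0 (by rw [h, zero_smul])
  push Not at hdep
  by_cases hc : polar Q w w' = 0
  · obtain ⟨x₀, hx₀⟩ := exists_polar_eq_one hQ hw0
    obtain ⟨x, hx1, hx2⟩ : ∃ x, polar Q w x = 1 ∧ polar Q w' x ≠ 0 := by
      by_cases h0 : polar Q w' x₀ = 0
      · obtain ⟨y, hy1, hy2⟩ : ∃ y, polar Q w y = 0 ∧ polar Q w' y ≠ 0 := by
          by_contra hcon
          push Not at hcon
          refine hw'0 (hQ w' fun y => ?_)
          have h1 := hcon (y - polar Q w y • x₀) (by
            rw [polar_sub_right, polar_smul_right, hx₀, smul_eq_mul, mul_one, sub_self])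
          rwa [polar_sub_right, polar_smul_right, h0, smul_zero, sub_zero] at h1
        exact ⟨x₀ + y, by rw [polar_add_right, hx₀, hy1, add_zero],
          by rw [polar_add_right, h0, zero_add]; exact hy2⟩
      · exact ⟨x₀, hx₀, h0⟩
    refine ⟨x + (-Q x) • w, ?_, ?_, ?_⟩
    · rw [Q_add, Q_smul, hw, polar_smul_right, polar_comm Q x w, hx1, smul_eq_mul]; ring
    · rw [polar_comm, polar_add_right, polar_smul_right, polar_self', hw, hx1, smul_eq_mul]; ring
    · rw [polar_comm, polar_add_right, polar_smul_right, polar_comm Q w' w, hc, smul_zero,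
        add_zero]
      exact hx2
  · have hp : HypPair Q w ((polar Q w w')⁻¹ • w') :=
      ⟨hw, by rw [Q_smul, hw', mul_zero],
        by rw [polar_smul_right, smul_eq_mul, inv_mul_cancel₀ hc]⟩
    have hfr := hp.finrank_core
    have : Nontrivial (core Q w ((polar Q w w')⁻¹ • w')) :=
      Module.nontrivial_of_finrank_pos (R := F) (by omega)
    obtain ⟨y₀, hy₀⟩ := exists_ne (0 : core Q w ((polar Q w w')⁻¹ • w'))
    obtain ⟨⟨y, hy⟩, hQy⟩ := exists_Q_ne_zero (hp.nondeg_core hQ) hy₀
    obtain ⟨hy1, hy2⟩ := mem_core.mp hy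
    rw [polar_smul_left, smul_eq_mul, mul_eq_zero] at hy2
    replace hy2 := hy2.resolve_left (inv_ne_zero hc)
    replace hQy : Q y ≠ 0 := hQy
    refine ⟨(-Q y) • w + (polar Q w w')⁻¹ • w' + y, ?_, ?_, ?_⟩
    · have h1 := hp.Q_comb_core (-Q y) 1 hy
      rw [one_smul] at h1
      rw [h1]; ring
    · rw [polar_comm, polar_add_right, polar_add_right, polar_smul_right, hp.pol_ee, hp.pol, hy1]
      simp
    · rw [polar_comm, polar_add_right, polar_add_right, polar_smul_right, polar_smul_right,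
        polar_self', hw', hy2, polar_comm Q w' w]
      simp [hc, hQy]

variable [Finite F]

/-- A singular non-zero vector exists in dimension at least three. -/
theorem exists_singular (hQ : Nondeg Q) (h3 : 3 ≤ finrank F V) : ∃ e, e ≠ 0 ∧ Q e = 0 := by
  have hA : ¬ Q.Anisotropic := fun hA => by
    have := anisotropic_finrank_le_two hQ hA
    omega
  rw [QuadraticMap.Anisotropic] at hA
  push Not at hA
  obtain ⟨e, he, he0⟩ := hA
  exact ⟨e, he0, he⟩

theorem exists_hyp (hQ : Nondeg Q) (h3 : 3 ≤ finrank F V) : ∃ e f, HypPair Q e f := by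
  obtain ⟨e, he0, he⟩ := exists_singular hQ h3
  obtain ⟨f, hp⟩ := exists_hypPair hQ he0 he
  exact ⟨e, f, hp⟩

omit [FiniteDimensional F V] [Finite F] in
theorem conn_drop {e f : V} (hp : HypPair Q e f) {v : V} (hb : polar Q e v ≠ 0) :
    Conn Q v ((Q v / polar Q e v) • e + polar Q e v • f) := by
  obtain ⟨w, hw⟩ : ∃ w, w = v - polar Q f v • e - polar Q e v • f := ⟨_, rfl⟩
  have hwc : w ∈ core Q e f := hw ▸ hp.proj_mem v
  set b := polar Q e v
  have hu : SPair Q e ((-b⁻¹) • w) :=
    ⟨hp.left, by rw [polar_smul_right, (mem_core.mp hwc).1, smul_zero]⟩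
  obtain ⟨g, hg, hgv⟩ := conn_rho hu v
  have hbu : b • ((-b⁻¹) • w) = -w := by
    rw [smul_smul, mul_neg, mul_inv_cancel₀ hb, neg_one_smul]
  obtain ⟨A, hA⟩ : ∃ A : F, g.1 v = A • e + b • f := by
    refine ⟨polar Q f v - (polar Q ((-b⁻¹) • w) v + Q ((-b⁻¹) • w) * b), ?_⟩
    rw [hgv, hbu, sub_smul, hw]
    abel
  refine ⟨g, hg, ?_⟩
  have hQv : A * b = Q v := by
    rw [← g.2 v, hA, Q_comb, hp.left, hp.right, hp.pol]; ring
  rw [hA, ← hQv, mul_div_assoc, div_self hb, mul_one]

/-- Every non-zero vector is carried to the plane of a hyperbolic pair, with any non-zero first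
coordinate. -/
theorem conn_normal (hQ : Nondeg Q) (h4 : 4 ≤ finrank F V) {e f : V} (hp : HypPair Q e f)
    {v : V} (hv : v ≠ 0) {a' : F} (ha' : a' ≠ 0) :
    Conn Q v (a' • e + (Q v / a') • f) := by
  have hfr := hp.finrank_core
  have hcore := hp.nondeg_core hQ
  have univ : ∀ c : F, ∃ u ∈ core Q e f, Q u = c := fun c => by
    obtain ⟨u, hu⟩ := exists_Q_eq hcore (by omega) c
    exact ⟨u, u.2, hu⟩
  have flip : ∀ {x : V}, polar Q f x ≠ 0 →
      Conn Q x (polar Q f x • e + (Q x / polar Q f x) • f) := fun {x} hx => by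
    rw [add_comm]; exact conn_drop hp.symm hx
  have main : ∀ {x : V}, polar Q e x ≠ 0 → Conn Q x (a' • e + (Q x / a') • f) := by
    intro x hb
    refine (conn_drop hp hb).trans ?_
    set b := polar Q e x
    set α := Q x / b with hα
    obtain ⟨u, hu, hQu⟩ := univ ((α - a') / b)
    obtain ⟨hu1, hu2⟩ := mem_core.mp hu
    obtain ⟨g, hg, hgy⟩ := conn_rho (⟨hp.left, hu1⟩ : SPair Q e u) (α • e + b • f)
    have hb1 : polar Q e (α • e + b • f) = b := by
      rw [polar_add_right, polar_smul_right, polar_smul_right, hp.pol_ee, hp.pol]; simp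
    have hu3 : polar Q u (α • e + b • f) = 0 := by
      rw [polar_add_right, polar_smul_right, polar_smul_right, polar_comm Q u e, hu1,
        polar_comm Q u f, hu2]
      simp
    rw [hb1, hu3, zero_add] at hgy
    have hfa : polar Q f (g.1 (α • e + b • f)) = a' := by
      rw [hgy]
      simp only [polar_sub_right, polar_add_right, polar_smul_right, hp.pol', hp.pol_ff, hu2,
        smul_eq_mul, hQu]
      field_simp
      ring
    have hQg : Q (g.1 (α • e + b • f)) = Q x := by
      rw [g.2, Q_comb, hp.left, hp.right, hp.pol, hα]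
      field_simp
      ring
    refine Conn.trans ⟨g, hg, rfl⟩ ?_
    have := flip (x := g.1 (α • e + b • f)) (by rw [hfa]; exact ha')
    rwa [hfa, hQg] at this
  by_cases hb : polar Q e v ≠ 0
  · exact main hb
  push Not at hb
  have step : ∀ {x : V}, polar Q f x ≠ 0 → Q x = Q v → Conn Q x (a' • e + (Q v / a') • f) := by
    intro x hx hQx
    have h1 := flip hx
    set a := polar Q f x
    by_cases hQ0 : Q x = 0
    · rw [hQ0, zero_div, zero_smul, add_zero] at h1
      obtain ⟨u, hu, hQu⟩ := univ 1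
      obtain ⟨hu1, hu2⟩ := mem_core.mp hu
      obtain ⟨g, hg, hgy⟩ := conn_rho (⟨hp.right, hu2⟩ : SPair Q f u) (a • e)
      have h2 : polar Q e (g.1 (a • e)) ≠ 0 := by
        rw [hgy]
        simp only [polar_sub_right, polar_add_right, polar_smul_right, hp.pol_ee, hp.pol,
          polar_comm Q u e, hu1, hp.pol', smul_eq_mul, hQu]
        simpa using hx
      have h3 : Q (g.1 (a • e)) = Q v := by
        rw [g.2, Q_smul, hp.left, mul_zero, ← hQ0, hQx]
      exact (h1.trans ⟨g, hg, rfl⟩).trans (h3 ▸ main h2)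
    · refine h1.trans ?_
      have h2 : polar Q e (a • e + (Q x / a) • f) ≠ 0 := by
        rw [polar_add_right, polar_smul_right, polar_smul_right, hp.pol_ee, hp.pol]
        simpa using div_ne_zero hQ0 hx
      have h3 := main h2
      have h4 : Q (a • e + (Q x / a) • f) = Q v := by
        rw [Q_comb, hp.left, hp.right, hp.pol, ← hQx]; field_simp; ring
      rwa [h4] at h3
  by_cases ha : polar Q f v ≠ 0
  · exact step ha rfl
  push Not at ha
  obtain ⟨u, hu⟩ := exists_polar_eq_one hcore
    (show (⟨v, mem_core.mpr ⟨hb, ha⟩⟩ : core Q e f) ≠ 0 from fun h => hv (congrArg Subtype.val h))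
  rw [res_polar] at hu
  obtain ⟨hu1, hu2⟩ := mem_core.mp u.2
  obtain ⟨g, hg, hgy⟩ := conn_rho (⟨hp.left, hu1⟩ : SPair Q e (u : V)) v
  refine Conn.trans ⟨g, hg, rfl⟩ (step ?_ (g.2 v))
  rw [hgy, hb, polar_comm Q (u : V) v, hu]
  simp [polar_sub_right, polar_smul_right, ha, hp.pol']

/-- `EG Q` is transitive on non-zero vectors of a given value. -/
theorem conn_of_eq (hQ : Nondeg Q) (h4 : 4 ≤ finrank F V) {x y : V} (hx : x ≠ 0) (hy : y ≠ 0)
    (h : Q x = Q y) : Conn Q x y := by
  obtain ⟨e, f, hp⟩ := exists_hyp hQ (by omega)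
  refine (conn_normal hQ h4 hp hx one_ne_zero).trans (Conn.symm ?_)
  rw [h]
  exact conn_normal hQ h4 hp hy one_ne_zero

/-- Siegel transformations are products of commutators of Siegel transformations. -/
theorem rho_mem_derived (hQ : Nondeg Q) (h5 : 5 ≤ finrank F V) {e u : V} (hu : SPair Q e u) :
    rho hu ∈ ⁅EG Q, EG Q⁆ := by
  by_cases he0 : e = 0
  · have h1 : rho hu = 1 := orth_ext fun x => by
      rw [rho_apply, he0]
      simp
    rw [h1]; exact one_mem _
  obtain ⟨f, hp⟩ := exists_hypPair hQ he0 hu.sing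
  have hcore := hp.nondeg_core hQ
  have hfr := hp.finrank_core
  let S : core Q e f → Prop := fun w =>
    rho (⟨hu.sing, (mem_core.mp w.2).1⟩ : SPair Q e (w : V)) ∈ ⁅EG Q, EG Q⁆
  have hadd : ∀ x y, S x → S y → S (x + y) := fun x y hx hy => by
    have := mul_mem hx hy
    rw [rho_mul] at this
    exact this
  have hcomm : ∀ {a b : core Q e f}, SPair Q (a : V) (b : V) → ∀ x : core Q e f,
      S ((polar Q (a : V) x) • b -
        (polar Q (b : V) x + Q (b : V) * polar Q (a : V) x) • a) := by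
    intro a b hab x
    have hfix : (rho hab).1 e = e := rho_fix hab
      ((polar_comm Q _ _).trans (mem_core.mp a.2).1) ((polar_comm Q _ _).trans (mem_core.mp b.2).1)
    have hx : SPair Q e (x : V) := ⟨hu.sing, (mem_core.mp x.2).1⟩
    have h : ⁅rho hab, rho hx⁆ ∈ ⁅EG Q, EG Q⁆ :=
      Subgroup.commutator_mem_commutator (rho_mem hab) (rho_mem hx)
    have hgx : SPair Q e ((rho hab).1 (x : V)) := ⟨hu.sing, by
      have := (SPair.map hx (rho hab)).perp
      rwa [hfix] at this⟩
    rw [commutatorElement_def, rho_conj, rho_inv, rho_congr (hx.map (rho hab)) hgx hfix rfl,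
      rho_mul] at h
    show rho _ ∈ _
    convert h using 1
    refine rho_congr _ _ rfl ?_
    rw [rho_apply]
    simp only [Submodule.coe_sub, Submodule.coe_smul_of_tower]
    abel
  have hsing : ∀ a : core Q e f, Q (a : V) = 0 → ∀ t : F, S (t • a) := by
    intro a ha t
    by_cases ha0 : a = 0
    · rw [ha0, smul_zero]
      show rho _ ∈ _
      rw [rho_congr _ (SPair.zero hu.sing) rfl (Submodule.coe_zero), rho_zero]
      exact one_mem _
    obtain ⟨a', hp2⟩ := exists_hypPair hcore ha0 ha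
    have hfr2 := hp2.finrank_core
    have : Nontrivial (core (res Q (core Q e f)) a a') :=
      Module.nontrivial_of_finrank_pos (R := F) (by omega)
    obtain ⟨b, hb⟩ := exists_ne (0 : core (res Q (core Q e f)) a a')
    obtain ⟨z, hz⟩ := exists_polar_eq_one (hp2.nondeg_core hcore) hb
    have h := hcomm (a := a) (b := (b : core Q e f))
      ⟨ha, (mem_core.mp b.2).1⟩ ((-t) • (z : core Q e f))
    have h1 : polar Q (a : V) (((-t) • (z : core Q e f) : core Q e f) : V) = 0 := by
      rw [Submodule.coe_smul_of_tower, polar_smul_right]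
      have := (mem_core.mp z.2).1
      rw [res_polar] at this
      rw [this, smul_zero]
    have h2 : polar Q ((b : core Q e f) : V) (((-t) • (z : core Q e f) : core Q e f) : V) = -t := by
      rw [Submodule.coe_smul_of_tower, polar_smul_right]
      rw [res_polar, res_polar] at hz
      rw [hz, smul_eq_mul, mul_one]
    rw [h1, h2] at h
    simpa using h
  obtain ⟨a, a', hp2⟩ := exists_hyp hcore (by omega)
  have hall : ∀ w, S w := by
    intro w
    obtain ⟨b, hb⟩ : ∃ b : core Q e f, b = w - polar (res Q (core Q e f)) a' w • a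
        - polar (res Q (core Q e f)) a w • a' := ⟨_, rfl⟩
    have hbc : b ∈ core (res Q (core Q e f)) a a' := hb ▸ hp2.proj_mem w
    have hSb : S b := by
      have h := hcomm (a := a) (b := b) ⟨hp2.left, (mem_core.mp hbc).1⟩ a'
      have h1 : polar Q (a : V) (a' : V) = 1 := hp2.pol
      have h2 : polar Q (b : V) (a' : V) = 0 :=
        (polar_comm Q _ _).trans (mem_core.mp hbc).2
      rw [h1, h2, one_smul, zero_add, mul_one] at h
      simpa using hadd _ _ h (hsing a hp2.left (Q (b : V)))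
    have : w = polar (res Q (core Q e f)) a' w • a + polar (res Q (core Q e f)) a w • a' + b := by
      rw [hb]; abel
    rw [this]
    exact hadd _ _ (hadd _ _ (hsing a hp2.left _) (hsing a' hp2.right _)) hSb
  have h2 : ((⟨_, hp.proj_mem u⟩ : core Q e f) : V) = u + (-polar Q f u) • e := by
    show u - polar Q f u • e - polar Q e u • f = _
    rw [hu.perp, zero_smul, sub_zero, neg_smul, sub_eq_add_neg]
  have h3 : SPair Q e (u + (-polar Q f u) • e) := by
    rw [← h2]; exact ⟨hu.sing, (mem_core.mp (hp.proj_mem u)).1⟩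
  have h4 := hall ⟨_, hp.proj_mem u⟩
  show rho hu ∈ _
  rw [← rho_shift hu (-polar Q f u) h3]
  exact (rho_congr _ h3 rfl h2) ▸ h4

theorem EG_perfect (hQ : Nondeg Q) (h5 : 5 ≤ finrank F V) : ⁅EG Q, EG Q⁆ = EG Q :=
  le_antisymm (Subgroup.commutator_le_self _)
    (EG_le fun _ _ hu => rho_mem_derived hQ h5 hu)

/-- `EG Q` is the commutator subgroup of the orthogonal group. -/
theorem commutator_eq_EG (hQ : Nondeg Q) (h5 : 5 ≤ finrank F V) :
    commutator (orth Q) = EG Q := by
  refine le_antisymm ?_ ?_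
  · have := EG_normal Q
    let π := QuotientGroup.mk' (EG Q)
    have hrefl : ∀ a b : V, Q a ≠ 0 → Q b ≠ 0 →
        π (orefl Q a) * π (orefl Q b) = π (orefl Q b) * π (orefl Q a) := by
      intro a b _ hb
      have hb0 : b ≠ 0 := fun h => hb (by rw [h, QuadraticMap.map_zero])
      obtain ⟨g, hg, hgb⟩ := conn_of_eq hQ (by omega) hb0 (y := (orefl Q a).1 b)
        (fun h => hb0 ((orefl Q a).1.injective (h.trans (map_zero _).symm)))
        ((orefl Q a).2 b).symm
      have h1 : ∀ k : orth Q, k * orefl Q b * k⁻¹ = orefl Q (k.1 b) := fun k =>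
        Subtype.ext (refl_conj k.2 b)
      have h2 : π (orefl Q a * orefl Q b * (orefl Q a)⁻¹) = π (g * orefl Q b * g⁻¹) := by
        rw [h1, h1, hgb]
      rw [map_mul π (g * _), map_mul π g, map_inv π g,
        show π g = 1 from (QuotientGroup.eq_one_iff g).mpr hg, one_mul, inv_one, mul_one,
        map_mul, map_mul, map_inv, mul_inv_eq_iff_eq_mul] at h2
      exact h2
    have hcl := closure_reflSet hQ (Or.inr (by omega))
    have hcent : ∀ a : V, Q a ≠ 0 → π (orefl Q a) ∈ Subgroup.center (orth Q ⧸ EG Q) := by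
      intro a ha
      rw [Subgroup.mem_center_iff]
      intro y
      obtain ⟨x, rfl⟩ := QuotientGroup.mk'_surjective (EG Q) y
      have hx : x ∈ (Subgroup.centralizer {π (orefl Q a)}).comap π := by
        have hle : Subgroup.closure (reflSet Q) ≤ (Subgroup.centralizer {π (orefl Q a)}).comap π := by
          refine (Subgroup.closure_le _).mpr ?_
          rintro _ ⟨b, hb, rfl⟩
          rw [SetLike.mem_coe, Subgroup.mem_comap, Subgroup.mem_centralizer_singleton_iff]
          exact hrefl b a hb ha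
        exact hle (hcl ▸ Subgroup.mem_top x)
      exact Subgroup.mem_centralizer_singleton_iff.mp hx
    rw [commutator_def, Subgroup.commutator_le]
    intro x _ y _
    rw [← QuotientGroup.eq_one_iff (N := EG Q)]
    have hx : x ∈ (Subgroup.center (orth Q ⧸ EG Q)).comap π := by
      have hle : Subgroup.closure (reflSet Q) ≤ (Subgroup.center (orth Q ⧸ EG Q)).comap π := by
        refine (Subgroup.closure_le _).mpr ?_
        rintro _ ⟨b, hb, rfl⟩
        exact hcent b hb
      exact hle (hcl ▸ Subgroup.mem_top x)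
    show π ⁅x, y⁆ = 1
    rw [map_commutatorElement, commutatorElement_eq_one_iff_mul_comm]
    exact ((Subgroup.mem_center_iff.mp hx) (π y)).symm
  · rw [← EG_perfect hQ h5, commutator_def]
    exact Subgroup.commutator_mono le_top le_top

/-- An isometry preserving every singular line is `±1`. -/
theorem scalar_of_lines (hQ : Nondeg Q) (h3 : 3 ≤ finrank F V) {g : orth Q}
    (hg : ∀ x : V, Q x = 0 → ∃ t : F, g.1 x = t • x) :
    (∀ x, g.1 x = x) ∨ ∀ x, g.1 x = -x := by
  obtain ⟨e, f, hp⟩ := exists_hyp hQ h3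
  obtain ⟨α, hα⟩ := hg e hp.left
  obtain ⟨β, hβ⟩ := hg f hp.right
  have hcoreimg : ∀ w ∈ core Q e f, g.1 w = β • w ∧ (Q w ≠ 0 → α = β) := by
    intro w hw
    obtain ⟨γ, hγ⟩ := hg ((-Q w) • e + (1 : F) • f + w) (by rw [hp.Q_comb_core _ _ hw]; ring)
    simp only [map_add, map_smul, hα, hβ, one_smul] at hγ
    obtain ⟨hw1, hw2⟩ := mem_core.mp hw
    have e1 : polar Q e (g.1 w) = 0 := by
      have h := orth_polar g.2 e w
      rw [hα, hw1, polar_smul_left, smul_eq_mul, mul_eq_zero] at h
      refine h.resolve_left fun h0 => ?_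
      rw [h0, zero_smul] at hα
      exact hp.left_ne (g.1.injective (hα.trans (map_zero _).symm))
    have f1 : polar Q f (g.1 w) = 0 := by
      have h := orth_polar g.2 f w
      rw [hβ, hw2, polar_smul_left, smul_eq_mul, mul_eq_zero] at h
      refine h.resolve_left fun h0 => ?_
      rw [h0, zero_smul] at hβ
      exact hp.symm.left_ne (g.1.injective (hβ.trans (map_zero _).symm))
    have hE := congrArg (polar Q e) hγ
    have hF := congrArg (polar Q f) hγ
    simp only [polar_add_right, polar_smul_right, hp.pol, hp.pol_ee, hp.pol', hp.pol_ff, e1, f1,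
      hw1, hw2, smul_eq_mul] at hE hF
    have hγβ : γ = β := by linear_combination -hE
    refine ⟨?_, fun hQw => ?_⟩
    · have h4 : g.1 w = γ • w + ((γ - β) • f + (-Q w * (γ - α)) • e) := by
        rw [eq_sub_of_add_eq' hγ]; module
      have h5 : -Q w * (γ - α) = 0 := by linear_combination -hF
      rw [h4, h5, hγβ, sub_self, zero_smul, zero_smul, add_zero, add_zero]
    · have h5 : Q w * (γ - α) = 0 := by linear_combination hF
      have := (mul_eq_zero.mp h5).resolve_left hQw
      rw [hγβ] at this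
      exact (sub_eq_zero.mp this).symm
  have hfr := hp.finrank_core
  have : Nontrivial (core Q e f) := Module.nontrivial_of_finrank_pos (R := F) (by omega)
  obtain ⟨y₀, hy₀⟩ := exists_ne (0 : core Q e f)
  obtain ⟨⟨y, hy⟩, hQy⟩ := exists_Q_ne_zero (hp.nondeg_core hQ) hy₀
  have hαβ : α = β := (hcoreimg y hy).2 hQy
  have hall : ∀ x, g.1 x = β • x := by
    intro x
    have hx : x = polar Q f x • e + polar Q e x • f +
        (x - polar Q f x • e - polar Q e x • f) := by abel
    rw [hx, map_add, map_add, map_smul, map_smul, hα, hβ, (hcoreimg _ (hp.proj_mem x)).1, hαβ]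
    module
  have hβ2 : β * β = 1 := by
    have h := orth_polar g.2 e f
    rw [hall, hall, polar_smul_left, polar_smul_right, hp.pol] at h
    simpa using h
  rcases mul_self_eq_one_iff.mp hβ2 with h | h
  · exact Or.inl fun x => by rw [hall, h, one_smul]
  · exact Or.inr fun x => by rw [hall, h, neg_one_smul]

/-- Something commuting with every Siegel transformation preserves every singular line. -/
theorem line_of_central (hQ : Nondeg Q) (h3 : 3 ≤ finrank F V) {g : orth Q}
    (hg : ∀ (e u : V) (hu : SPair Q e u), g * rho hu = rho hu * g) {e : V} (he : Q e = 0) :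
    ∃ t : F, g.1 e = t • e := by
  by_cases he0 : e = 0
  · exact ⟨0, by simp [he0]⟩
  obtain ⟨f, hp⟩ := exists_hypPair hQ he0 he
  have key : ∀ u ∈ core Q e f, polar Q e (g.1 e) • u =
      (polar Q u (g.1 e) + Q u * polar Q e (g.1 e)) • e := by
    intro u hu
    have hs : SPair Q e u := ⟨he, (mem_core.mp hu).1⟩
    have h := congrArg (fun k : orth Q => k.1 e) (hg e u hs)
    simp only [orth_mul_apply] at h
    rw [rho_fix hs hp.pol_ee ((polar_comm Q u e).trans (mem_core.mp hu).1), rho_apply] at h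
    have h2 : polar Q e (g.1 e) • u - (polar Q u (g.1 e) + Q u * polar Q e (g.1 e)) • e = 0 := by
      rw [← sub_self (g.1 e)]
      nth_rw 4 [h]
      abel
    exact sub_eq_zero.mp h2
  have hb : ∀ u ∈ core Q e f, u ≠ 0 → polar Q e (g.1 e) = 0 ∧ polar Q u (g.1 e) = 0 := by
    intro u hu hu0
    have h := key u hu
    have h1 := congrArg (polar Q f) h
    rw [polar_smul_right, polar_smul_right, (mem_core.mp hu).2, hp.pol', smul_zero, smul_eq_mul,
      mul_one] at h1
    rw [← h1, zero_smul, smul_eq_zero] at h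
    have h2 := h.resolve_right hu0
    rw [h2, mul_zero, add_zero] at h1
    exact ⟨h2, h1.symm⟩
  have hfr := hp.finrank_core
  have : Nontrivial (core Q e f) := Module.nontrivial_of_finrank_pos (R := F) (by omega)
  obtain ⟨u₀, hu₀⟩ := exists_ne (0 : core Q e f)
  have hb0 := (hb u₀ u₀.2 (fun h => hu₀ (Subtype.ext h))).1
  refine ⟨polar Q f (g.1 e), ?_⟩
  have hw := hp.proj_mem (g.1 e)
  have h0 : (⟨_, hw⟩ : core Q e f) = 0 := by
    refine hp.nondeg_core hQ _ fun u => ?_
    rw [res_polar]
    by_cases hu0 : (u : V) = 0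
    · rw [hu0, polar_zero_right]
    · rw [polar_comm, polar_sub_right, polar_sub_right, polar_smul_right, polar_smul_right,
        (hb u u.2 hu0).2, hb0, polar_comm Q (u : V) e, (mem_core.mp u.2).1]
      simp
  have h1 : g.1 e - polar Q f (g.1 e) • e - polar Q e (g.1 e) • f = 0 := congrArg Subtype.val h0
  rw [hb0, zero_smul, sub_zero] at h1
  exact sub_eq_zero.mp h1

/-- The centre of `EG Q` consists of `±1`. -/
theorem mem_center_EG_iff (hQ : Nondeg Q) (h5 : 5 ≤ finrank F V) (g : EG Q) :
    g ∈ Subgroup.center (EG Q) ↔ (∀ x, g.1.1 x = x) ∨ ∀ x, g.1.1 x = -x := by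
  constructor
  · intro hg
    refine scalar_of_lines hQ (by omega) fun x hx => line_of_central hQ (by omega) ?_ hx
    intro e u hu
    exact congrArg Subtype.val (Subgroup.mem_center_iff.mp hg ⟨rho hu, rho_mem hu⟩).symm
  · intro hg
    rw [Subgroup.mem_center_iff]
    intro k
    apply Subtype.ext
    refine orth_ext fun x => ?_
    show k.1.1 (g.1.1 x) = g.1.1 (k.1.1 x)
    rcases hg with h | h
    · rw [h, h]
    · rw [h, h, map_neg]

/-- A subgroup normalised by `EG Q` that moves a singular line and lies in `EG Q` is all of it. -/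
theorem EG_le_of_moves (hQ : Nondeg Q) (h5 : 5 ≤ finrank F V) {N : Subgroup (orth Q)}
    (hNle : N ≤ EG Q) (hN : ∀ h ∈ EG Q, ∀ n ∈ N, h * n * h⁻¹ ∈ N) {g : orth Q} (hg : g ∈ N)
    {e : V} (he : Q e = 0) (hge : ∀ t : F, g.1 e ≠ t • e) : EG Q ≤ N := by
  have he0 : e ≠ 0 := fun h => hge 0 (by simp [h])
  let R : V → V → Prop := fun x y => ∃ n ∈ N, ∃ t : F, t ≠ 0 ∧ n.1 x = t • y
  have Rtrans : ∀ {x y z}, R x y → R y z → R x z := by
    rintro x y z ⟨n, hn, t, ht, hxy⟩ ⟨n', hn', s, hs, hyz⟩
    exact ⟨n' * n, mul_mem hn' hn, t * s, mul_ne_zero ht hs, by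
      rw [orth_mul_apply, hxy, map_smul, hyz, smul_smul]⟩
  have Rsymm : ∀ {x y}, R x y → R y x := by
    rintro x y ⟨n, hn, t, ht, hxy⟩
    refine ⟨n⁻¹, inv_mem hn, t⁻¹, inv_ne_zero ht, ?_⟩
    have := congrArg (fun z => t⁻¹ • (n⁻¹).1 z) hxy
    simp only [orth_inv_apply_apply, map_smul, smul_smul, inv_mul_cancel₀ ht, one_smul] at this
    exact this.symm
  have Rmap : ∀ {x y}, R x y → ∀ h ∈ EG Q, R (h.1 x) (h.1 y) := by
    rintro x y ⟨n, hn, t, ht, hxy⟩ h hh
    exact ⟨h * n * h⁻¹, hN h hh n hn, t, ht, by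
      rw [orth_mul_apply, orth_mul_apply, orth_inv_apply_apply, hxy, map_smul]⟩
  have Rscale : ∀ {x y} {t : F}, t ≠ 0 → R x (t • y) → R x y := by
    rintro x y t ht ⟨n, hn, s, hs, hxy⟩
    exact ⟨n, hn, s * t, mul_ne_zero hs ht, by rw [hxy, smul_smul]⟩
  have Rge : R e (g.1 e) := ⟨g, hg, 1, one_ne_zero, by rw [one_smul]⟩
  have hge0 : g.1 e ≠ 0 := fun h => he0 (g.1.injective (h.trans (map_zero _).symm))
  have hgs : Q (g.1 e) = 0 := (g.2 e).trans he
  -- a pair, moved anywhere
  have spread : ∀ {a b x y : V}, a ≠ 0 → b ≠ 0 → x ≠ 0 → y ≠ 0 → Q a = 0 → Q b = 0 → Q x = 0 →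
      Q y = 0 → R a b → (polar Q a b ≠ 0 ∧ polar Q x y ≠ 0 ∨ polar Q a b = 0 ∧ polar Q x y = 0 ∧
        (∀ t : F, b ≠ t • a) ∧ ∀ t : F, y ≠ t • x) → R x y := by
    intro a b x y ha0 hb0 hx0 hy0 ha hb hx hy hab hcase
    obtain ⟨h, hh, rfl⟩ := conn_of_eq hQ (by omega) ha0 hx0 (ha.trans hx.symm)
    have hab' := Rmap hab h hh
    have hpol : polar Q (h.1 a) (h.1 b) = polar Q a b := orth_polar h.2 a b
    have hb' : h.1 b ≠ 0 := fun hh' => hb0 (h.1.injective (hh'.trans (map_zero _).symm))
    rcases hcase with ⟨h1, h2⟩ | ⟨h1, h2, h3, h4⟩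
    · -- partners of `h a`
      obtain ⟨hu, hmove⟩ := rho_move (z := h.1 a) (w := (polar Q a b)⁻¹ • h.1 b)
        (w' := (polar Q (h.1 a) y)⁻¹ • y) hx
        (by rw [Q_smul, h.2, hb, mul_zero]) (by rw [Q_smul, hy, mul_zero])
        (by rw [polar_smul_right, hpol, smul_eq_mul, inv_mul_cancel₀ h1])
        (by rw [polar_smul_right, smul_eq_mul, inv_mul_cancel₀ h2])
      have hfix : (rho hu).1 (h.1 a) = h.1 a := rho_fix hu hu.self hu.perp'
      have hfin := Rmap hab' _ (rho_mem hu)
      rw [hfix] at hfin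
      have hkey : (rho hu).1 (h.1 b) = (polar Q a b * (polar Q (h.1 a) y)⁻¹) • y := by
        have := congrArg (polar Q a b • ·) hmove
        simp only [map_smul, smul_smul, mul_inv_cancel₀ h1, one_smul] at this
        exact this
      rw [hkey] at hfin
      exact Rscale (mul_ne_zero h1 (inv_ne_zero h2)) hfin
    · -- inside the perpendicular of `h a`
      obtain ⟨f, hp⟩ := exists_hypPair hQ hx0 hx
      have hfr := hp.finrank_core
      set W := core Q (h.1 a) f
      have proj : ∀ z : V, polar Q (h.1 a) z = 0 → Q z = 0 → (∀ t : F, z ≠ t • h.1 a) →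
          ∃ w : W, w ≠ 0 ∧ Q (w : V) = 0 ∧ z = (w : V) + polar Q f z • h.1 a := by
        intro z hz hQz hzne
        refine ⟨⟨_, hp.proj_mem z⟩, fun h0 => hzne (polar Q f z) ?_, ?_, ?_⟩
        · have := congrArg Subtype.val h0
          simp only [hz, zero_smul, sub_zero, Submodule.coe_zero] at this
          exact sub_eq_zero.mp this
        · have := hp.Q_comb_core (polar Q f z) 0 (hp.proj_mem z)
          rw [zero_smul, add_zero, mul_zero, zero_add] at this
          show Q (z - polar Q f z • h.1 a - polar Q (h.1 a) z • f) = 0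
          rw [← this, hz, zero_smul, sub_zero, add_sub_cancel]
          exact hQz
        · show z = z - polar Q f z • h.1 a - polar Q (h.1 a) z • f + _
          rw [hz, zero_smul, sub_zero, sub_add_cancel]
      have h3' : ∀ t : F, h.1 b ≠ t • h.1 a := fun t ht => h3 t (h.1.injective (by rw [ht, map_smul]))
      obtain ⟨w, hw0, hws, hwb⟩ := proj (h.1 b) (hpol.trans h1) ((h.2 b).trans hb) h3'
      obtain ⟨w', hw'0, hw's, hwy⟩ := proj y h2 hy h4
      obtain ⟨z, hz, hzw, hzw'⟩ := exists_common (hp.nondeg_core hQ)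
        (by show 3 ≤ finrank F W; omega) hw0 hw'0 hws hw's
      obtain ⟨hu, hmove⟩ := rho_move (Q := res Q W) (z := z) (w := w)
        (w' := (polar (res Q W) z w')⁻¹ • w') hz hws
        (by rw [Q_smul, res_apply, hw's, mul_zero]) hzw
        (by rw [polar_smul_right, smul_eq_mul, inv_mul_cancel₀ hzw'])
      have huV : SPair Q (z : V) ((((polar (res Q W) z w')⁻¹ • w' - w : W) : V)) :=
        ⟨hz, hu.perp⟩
      have hmoveV : (rho huV).1 (w : V) = (polar (res Q W) z w')⁻¹ • (w' : V) := by
        have := congrArg Subtype.val hmove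
        exact this
      have hfix : (rho huV).1 (h.1 a) = h.1 a := rho_fix huV
        ((polar_comm Q _ _).trans (mem_core.mp z.2).1)
        ((polar_comm Q _ _).trans (mem_core.mp (Subtype.coe_prop _)).1)
      have h5' := Rmap hab' _ (rho_mem huV)
      rw [hfix, hwb, map_add, map_smul, hmoveV, hfix] at h5'
      -- shift along `h a`
      set c := (polar (res Q W) z w')⁻¹
      have hc : c ≠ 0 := inv_ne_zero hzw'
      set d := polar Q f (h.1 b)
      obtain ⟨s, hs⟩ : ∃ s : F, s = d - c * polar Q f y := ⟨_, rfl⟩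
      obtain ⟨p, hp'⟩ := exists_polar_eq_one (hp.nondeg_core hQ) hw'0
      rw [res_polar] at hp'
      have hk : SPair Q (h.1 a) ((c⁻¹ * s) • (p : V)) :=
        ⟨hx, by rw [polar_smul_right, (mem_core.mp p.2).1, smul_zero]⟩
      have h6 := Rmap h5' _ (rho_mem hk)
      have hfix2 : (rho hk).1 (h.1 a) = h.1 a := rho_fix hk hp.pol_ee hk.perp'
      have h7 : (rho hk).1 (w' : V) = (w' : V) - (c⁻¹ * s) • h.1 a := by
        rw [rho_apply, (mem_core.mp w'.2).1, polar_smul_left, polar_comm Q (p : V), hp']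
        simp
      rw [hfix2, map_add, map_smul, map_smul, hfix2, h7] at h6
      refine Rscale hc ?_
      have h8 : c • y = c • ((w' : V) - (c⁻¹ * s) • h.1 a) + d • h.1 a := by
        rw [hwy, hs, smul_add, smul_sub, smul_smul, smul_smul, ← mul_assoc, mul_inv_cancel₀ hc,
          one_mul]
        module
      rw [h8]
      exact h6
  -- every two singular lines are related
  have Rall : ∀ {x y : V}, x ≠ 0 → y ≠ 0 → Q x = 0 → Q y = 0 → R x y := by
    intro x y hx0 hy0 hx hy
    by_cases hdep : ∃ t : F, y = t • x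
    · obtain ⟨t, rfl⟩ := hdep
      refine ⟨1, one_mem _, t⁻¹, inv_ne_zero fun h => hy0 (by rw [h, zero_smul]), ?_⟩
      rw [smul_smul, inv_mul_cancel₀ (fun h => hy0 (by rw [h, zero_smul])), one_smul]
      rfl
    push Not at hdep
    by_cases hc : polar Q e (g.1 e) = 0
    · by_cases hxy : polar Q x y = 0
      · exact spread he0 hge0 hx0 hy0 he hgs hx hy Rge (Or.inr ⟨hc, hxy, hge, hdep⟩)
      · have hp : HypPair Q x ((polar Q x y)⁻¹ • y) :=
          ⟨hx, by rw [Q_smul, hy, mul_zero],
            by rw [polar_smul_right, smul_eq_mul, inv_mul_cancel₀ hxy]⟩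
        have hfr := hp.finrank_core
        obtain ⟨z, hz0, hz⟩ := exists_singular (hp.nondeg_core hQ) (by omega)
        have hz0' : (z : V) ≠ 0 := fun h => hz0 (Subtype.ext h)
        obtain ⟨hz1, hz2⟩ := mem_core.mp z.2
        rw [polar_smul_left, smul_eq_mul, mul_eq_zero] at hz2
        replace hz2 := hz2.resolve_left (inv_ne_zero hxy)
        refine Rtrans (y := (z : V))
          (spread he0 hge0 hx0 hz0' he hgs hx hz Rge (Or.inr ⟨hc, hz1, hge, fun t ht => ?_⟩))
          (Rsymm (spread he0 hge0 hy0 hz0' he hgs hy hz Rge (Or.inr ⟨hc, hz2, hge, fun t ht => ?_⟩)))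
        · rw [ht, polar_smul_right, polar_comm Q y x, smul_eq_mul, mul_eq_zero] at hz2
          exact hz0' (by rw [ht, hz2.resolve_right hxy, zero_smul])
        · rw [ht, polar_smul_right, smul_eq_mul, mul_eq_zero] at hz1
          exact hz0' (by rw [ht, hz1.resolve_right hxy, zero_smul])
    · by_cases hxy : polar Q x y = 0
      · obtain ⟨z, hz, hzx, hzy⟩ := exists_common hQ (by omega) hx0 hy0 hx hy
        have hz0 : z ≠ 0 := fun h => by simp [h] at hzx
        exact Rtrans (y := z)
          (Rsymm (spread he0 hge0 hz0 hx0 he hgs hz hx Rge (Or.inl ⟨hc, by rw [hzx]; exact one_ne_zero⟩)))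
          (spread he0 hge0 hz0 hy0 he hgs hz hy Rge (Or.inl ⟨hc, hzy⟩))
      · exact spread he0 hge0 hx0 hy0 he hgs hx hy Rge (Or.inl ⟨hc, hxy⟩)
  -- conclude
  refine (EG_perfect hQ h5).symm.le.trans ?_
  let T : Subgroup (orth Q) :=
    { carrier := {k | ∃ (u : V) (hu : SPair Q e u), k = rho hu}
      one_mem' := ⟨0, SPair.zero he, (rho_zero _).symm⟩
      mul_mem' := by
        rintro _ _ ⟨u, hu, rfl⟩ ⟨w, hw, rfl⟩
        exact ⟨_, hu.add hw, rho_mul hu hw⟩
      inv_mem' := by
        rintro _ ⟨u, hu, rfl⟩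
        exact ⟨_, hu.neg, rho_inv hu⟩ }
  have hTle : T ≤ EG Q := by rintro _ ⟨u, hu, rfl⟩; exact rho_mem hu
  let N' := N.subgroupOf (EG Q)
  have hN' : N'.Normal := ⟨fun n hn k => hN k.1 k.2 n.1 hn⟩
  let T' := T.subgroupOf (EG Q)
  have htop : N' ⊔ T' = ⊤ := by
    rw [eq_top_iff]
    intro k _
    have hle : EG Q ≤ (N' ⊔ T').map (EG Q).subtype := EG_le fun x u hu => by
      by_cases hx0 : x = 0
      · have h1 : rho hu = 1 := orth_ext fun z => by rw [rho_apply, hx0]; simp
        rw [h1]; exact one_mem _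
      obtain ⟨n, hn, t, ht, hnx⟩ := Rall hx0 he0 hu.sing he
      have hmem1 : n⁻¹ * (n * rho hu * n⁻¹) * n = rho hu := by group
      rw [← hmem1]
      have hn' : (⟨n, hNle hn⟩ : EG Q) ∈ N' ⊔ T' := Subgroup.mem_sup_left hn
      have hu' : SPair Q e (t • n.1 u) := ⟨he, by
        have := (hu.map n).perp
        rw [hnx, polar_smul_left] at this
        rw [polar_smul_right]; exact this⟩
      have hconj : n * rho hu * n⁻¹ = rho hu' := by
        rw [rho_conj, rho_congr (hu.map n) (⟨by rw [Q_smul, he, mul_zero], by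
          rw [← hnx]; exact (hu.map n).perp⟩ : SPair Q (t • e) (n.1 u)) hnx rfl]
        exact rho_vec_smul _ _
      have hT : (⟨rho hu', rho_mem hu'⟩ : EG Q) ∈ N' ⊔ T' :=
        Subgroup.mem_sup_right ⟨_, hu', rfl⟩
      exact ⟨_, mul_mem (mul_mem (inv_mem hn') hT) hn', by rw [hconj]; rfl⟩
    obtain ⟨k', hk', hkk⟩ := hle k.2
    rwa [← Subtype.ext hkk]
  have hTc : IsMulCommutative T' := ⟨⟨by
    rintro ⟨x, u, hu, hx⟩ ⟨y, w, hw, hy⟩
    apply Subtype.ext; apply Subtype.ext
    show x.1 * y.1 = y.1 * x.1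
    rw [show x.1 = rho hu from hx, show y.1 = rho hw from hy, rho_mul, rho_mul]
    exact rho_congr _ _ rfl (add_comm u w)⟩⟩
  have hcomm := hN'.commutator_le_of_self_sup_commutative_eq_top htop hTc
  intro k hk
  rw [← Subgroup.range_subtype (EG Q), MonoidHom.range_eq_map, ← Subgroup.map_commutator,
    ← commutator_def] at hk
  obtain ⟨k', hk', rfl⟩ := hk
  exact hcomm hk'

/-- `EG Q / Z(EG Q)` is simple. -/
theorem isSimpleGroup_EG (hQ : Nondeg Q) (h5 : 5 ≤ finrank F V) :
    IsSimpleGroup (EG Q ⧸ Subgroup.center (EG Q)) := by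
  have : Nontrivial (EG Q ⧸ Subgroup.center (EG Q)) := by
    rw [QuotientGroup.nontrivial_iff]
    intro htop
    obtain ⟨e, f, hp⟩ := exists_hyp hQ (by omega)
    have hfr := hp.finrank_core
    have : Nontrivial (core Q e f) := Module.nontrivial_of_finrank_pos (R := F) (by omega)
    obtain ⟨u₀, hu₀⟩ := exists_ne (0 : core Q e f)
    have hu : SPair Q e (u₀ : V) := ⟨hp.left, (mem_core.mp u₀.2).1⟩
    obtain ⟨z, hz⟩ := exists_polar_eq_one (hp.nondeg_core hQ) hu₀
    rw [res_polar] at hz
    have h1 : (rho hu).1 (z : V) = (z : V) - (1 : F) • e := by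
      rw [rho_apply, (mem_core.mp z.2).1, hz]
      simp
    have h3 := (mem_center_EG_iff hQ h5 ⟨rho hu, rho_mem hu⟩).mp (htop ▸ Subgroup.mem_top _)
    rcases h3 with h3 | h3 <;>
    · have h4 := congrArg (polar Q f) (h1.symm.trans (h3 z))
      simp [polar_sub_right, polar_neg_right, (mem_core.mp z.2).2, hp.pol'] at h4
  apply IsSimpleGroup.mk
  intro N hN
  let π := QuotientGroup.mk' (Subgroup.center (EG Q))
  let M := (N.comap π).map (EG Q).subtype
  by_cases hall : ∀ g ∈ N.comap π, ∀ x : V, Q x = 0 → ∃ t : F, g.1.1 x = t • x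
  · left
    rw [eq_bot_iff]
    intro n hn
    obtain ⟨g, rfl⟩ := QuotientGroup.mk_surjective n
    rw [Subgroup.mem_bot, QuotientGroup.eq_one_iff, mem_center_EG_iff hQ h5]
    exact scalar_of_lines hQ (by omega) (hall g hn)
  · right
    push Not at hall
    obtain ⟨g, hg, e, he, hge⟩ := hall
    have hle := EG_le_of_moves hQ h5 (N := M) (Subgroup.map_subtype_le _) (fun h hh n hn => by
      obtain ⟨n', hn', rfl⟩ := hn
      exact ⟨⟨h, hh⟩ * n' * ⟨h, hh⟩⁻¹, (hN.comap π).conj_mem n' hn' ⟨h, hh⟩, rfl⟩)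
      (⟨g, hg, rfl⟩ : (g : orth Q) ∈ M) he hge
    rw [eq_top_iff]
    intro n _
    obtain ⟨k, rfl⟩ := QuotientGroup.mk_surjective n
    obtain ⟨k', hk', hkk⟩ := hle k.2
    rw [Subtype.ext hkk] at hk'
    exact hk'

end Cfsg.Agent.Lib.OrthOmega
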