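import Cfsg.Agent.Lib.Forms.Reflections

/-!
# Siegel transformations of an orthogonal group

For singular `e` and `u ⊥ e`, `rho e u x = x + B(x,e) u - B(x,u) e - Q(u) B(x,e) e` is an
isometry.  `EG Q` is the group they generate.
-/

set_option autoImplicit false

namespace Cfsg.Agent.Lib.OrthOmega

open Module QuadraticMap Cfsg.Agent.Lib.Forms

variable {F : Type*} [Field F] {V : Type*} [AddCommGroup V] [Module F V]
variable {Q : QuadraticForm F V}

/-- The side conditions of a Siegel transformation. -/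
structure SPair (Q : QuadraticForm F V) (e u : V) : Prop where
  sing : Q e = 0
  perp : polar Q e u = 0

namespace SPair

variable {e u w : V}

theorem perp' (h : SPair Q e u) : polar Q u e = 0 := (polar_comm Q u e).trans h.perp

theorem self (h : SPair Q e u) : polar Q e e = 0 := by rw [polar_self', h.sing, mul_zero]

theorem zero (he : Q e = 0) : SPair Q e 0 := ⟨he, polar_zero_right (Q := Q) e⟩

theorem neg (h : SPair Q e u) : SPair Q e (-u) :=
  ⟨h.sing, by rw [polar_neg_right, h.perp, neg_zero]⟩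

theorem add (h : SPair Q e u) (h' : SPair Q e w) : SPair Q e (u + w) :=
  ⟨h.sing, by rw [polar_add_right, h.perp, h'.perp, add_zero]⟩

theorem smul (h : SPair Q e u) (t : F) : SPair Q e (t • u) :=
  ⟨h.sing, by rw [polar_smul_right, h.perp, smul_zero]⟩

theorem map (h : SPair Q e u) (g : orth Q) : SPair Q (g.1 e) (g.1 u) :=
  ⟨(g.2 e).trans h.sing, (orth_polar g.2 e u).trans h.perp⟩

end SPair

/-- The Siegel transformation as a linear map. -/
def rhoMap (Q : QuadraticForm F V) (e u : V) : V →ₗ[F] V :=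
  LinearMap.id + (polarBilin Q e).smulRight u
    - (polarBilin Q u + Q u • polarBilin Q e).smulRight e

theorem rhoMap_apply (e u x : V) : rhoMap Q e u x =
    x + polar Q e x • u - (polar Q u x + Q u * polar Q e x) • e := rfl

theorem rhoMap_comp {e u w : V} (hu : SPair Q e u) (hw : SPair Q e w) (x : V) :
    rhoMap Q e u (rhoMap Q e w x) = rhoMap Q e (u + w) x := by
  simp only [rhoMap_apply, polar_sub_right, polar_add_right, polar_smul_right, polar_add_left,
    hw.perp, hu.perp', hu.self, smul_eq_mul, mul_zero, add_zero, sub_zero, Q_add Q u w]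
  module

theorem rhoMap_zero (e x : V) : rhoMap Q e 0 x = x := by
  simp [rhoMap_apply]

theorem rhoMap_neg {e u : V} (hu : SPair Q e u) (x : V) :
    rhoMap Q e u (rhoMap Q e (-u) x) = x := by
  rw [rhoMap_comp hu hu.neg, add_neg_cancel, rhoMap_zero]

theorem rhoMap_isometry {e u : V} (hu : SPair Q e u) (x : V) : Q (rhoMap Q e u x) = Q x := by
  rw [rhoMap_apply, sub_eq_add_neg, ← neg_smul, Q_add, Q_add, Q_smul, Q_smul, hu.sing,
    polar_smul_right, polar_smul_right, polar_add_left, polar_smul_left, hu.perp', polar_comm Q x e,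
    polar_comm Q x u]
  simp only [smul_eq_mul]
  ring

/-- The Siegel transformation. -/
def rho {e u : V} (hu : SPair Q e u) : orth Q :=
  ⟨LinearEquiv.ofLinearMap (rhoMap Q e u) (rhoMap Q e (-u))
    (LinearMap.ext fun x => rhoMap_neg hu x)
    (LinearMap.ext fun x => by
      show rhoMap Q e (-u) (rhoMap Q e u x) = x
      rw [rhoMap_comp hu.neg hu, neg_add_cancel, rhoMap_zero]),
    fun x => rhoMap_isometry hu x⟩

theorem rho_apply {e u : V} (hu : SPair Q e u) (x : V) : (rho hu).1 x =
    x + polar Q e x • u - (polar Q u x + Q u * polar Q e x) • e := rfl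

theorem orth_ext {g h : orth Q} (H : ∀ x, g.1 x = h.1 x) : g = h :=
  Subtype.ext (LinearEquiv.ext H)

theorem orth_mul_apply (g h : orth Q) (x : V) : (g * h).1 x = g.1 (h.1 x) := rfl

theorem orth_inv_apply_apply (g : orth Q) (x : V) : g⁻¹.1 (g.1 x) = x :=
  g.1.symm_apply_apply x

theorem orth_apply_inv_apply (g : orth Q) (x : V) : g.1 (g⁻¹.1 x) = x :=
  g.1.apply_symm_apply x

theorem rho_mul {e u w : V} (hu : SPair Q e u) (hw : SPair Q e w) :
    rho hu * rho hw = rho (hu.add hw) :=
  orth_ext fun x => rhoMap_comp hu hw x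

theorem rho_congr {e u e' u' : V} (hu : SPair Q e u) (hu' : SPair Q e' u') (he : e = e')
    (h : u = u') : rho hu = rho hu' := by
  subst he; subst h; rfl

theorem rho_zero {e : V} (hu : SPair Q e 0) : rho hu = 1 :=
  orth_ext fun x => rhoMap_zero e x

theorem rho_inv {e u : V} (hu : SPair Q e u) : (rho hu)⁻¹ = rho hu.neg := by
  refine inv_eq_of_mul_eq_one_right ?_
  rw [rho_mul, rho_congr _ (SPair.zero hu.sing) rfl (add_neg_cancel u), rho_zero]

theorem rho_conj (g : orth Q) {e u : V} (hu : SPair Q e u) :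
    g * rho hu * g⁻¹ = rho (hu.map g) := by
  refine orth_ext fun x => ?_
  obtain ⟨y, rfl⟩ : ∃ y, g.1 y = x := ⟨_, orth_apply_inv_apply g x⟩
  rw [orth_mul_apply, orth_mul_apply, orth_inv_apply_apply, rho_apply, rho_apply, map_sub, map_add,
    map_smul, map_smul, orth_polar g.2, orth_polar g.2, g.2]

theorem rho_vec_smul {e u : V} {t : F} (hu : SPair Q (t • e) u) (hu' : SPair Q e (t • u)) :
    rho hu = rho hu' := by
  refine orth_ext fun x => ?_
  rw [rho_apply, rho_apply, polar_smul_left, polar_smul_left, Q_smul]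
  simp only [smul_eq_mul]
  module

theorem rho_shift {e u : V} (hu : SPair Q e u) (s : F) (hu' : SPair Q e (u + s • e)) :
    rho hu' = rho hu := by
  refine orth_ext fun x => ?_
  rw [rho_apply, rho_apply, polar_add_left, polar_smul_left, Q_add, Q_smul, hu.sing,
    polar_smul_right, hu.perp']
  simp only [smul_eq_mul]
  module

/-- A Siegel transformation fixes what is orthogonal to both vectors. -/
theorem rho_fix {e u x : V} (hu : SPair Q e u) (h1 : polar Q e x = 0) (h2 : polar Q u x = 0) :
    (rho hu).1 x = x := by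
  rw [rho_apply, h1, h2]
  simp

/-- The group generated by all Siegel transformations. -/
def EG (Q : QuadraticForm F V) : Subgroup (orth Q) :=
  Subgroup.closure {g | ∃ (e u : V) (h : SPair Q e u), g = rho h}

theorem rho_mem {e u : V} (hu : SPair Q e u) : rho hu ∈ EG Q :=
  Subgroup.subset_closure ⟨e, u, hu, rfl⟩

theorem EG_le {H : Subgroup (orth Q)}
    (h : ∀ (e u : V) (hu : SPair Q e u), rho hu ∈ H) : EG Q ≤ H :=
  (Subgroup.closure_le H).2 fun _ ⟨e, u, hu, hg⟩ => hg ▸ h e u hu

theorem EG_normal (Q : QuadraticForm F V) : (EG Q).Normal := by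
  refine ⟨fun n hn g => ?_⟩
  have hle : EG Q ≤ (EG Q).comap (MulAut.conj g).toMonoidHom :=
    EG_le fun e u hu => by
      show g * rho hu * g⁻¹ ∈ EG Q
      rw [rho_conj]; exact rho_mem _
  exact hle hn

/-- `x` is carried to `y` by an element of `EG Q`. -/
def Conn (Q : QuadraticForm F V) (x y : V) : Prop := ∃ g ∈ EG Q, g.1 x = y

theorem Conn.trans {x y z : V} (h : Conn Q x y) (h' : Conn Q y z) : Conn Q x z := by
  obtain ⟨g, hg, rfl⟩ := h
  obtain ⟨k, hk, rfl⟩ := h'
  exact ⟨k * g, mul_mem hk hg, rfl⟩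

theorem Conn.symm {x y : V} (h : Conn Q x y) : Conn Q y x := by
  obtain ⟨g, hg, rfl⟩ := h
  exact ⟨g⁻¹, inv_mem hg, orth_inv_apply_apply g x⟩

theorem conn_rho {e u : V} (hu : SPair Q e u) (x : V) :
    Conn Q x (x + polar Q e x • u - (polar Q u x + Q u * polar Q e x) • e) :=
  ⟨rho hu, rho_mem hu, rho_apply hu x⟩

end Cfsg.Agent.Lib.OrthOmega
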